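import Cfsg.Agent.S0033
import Cfsg.Agent.Lib.Lead.HKK.Kreknin
import Cfsg.Agent.Lib.Lead.HKK.GrpB
import Cfsg.Agent.Lib.Helper71.HKKKk3
import Cfsg.Agent.Lib.Helper71.HKKP3

set_option autoImplicit false
universe u


namespace Cfsg.Agent.Lib.Lead.HKK

theorem nilBound_xi (p : ℕ) [Fact p.Prime] : NilBound.{u} p (xi p (2 ^ (p - 1) - 1)) := by
  intro M _ K hK
  have : NeZero p := ⟨(Fact.out : p.Prime).ne_zero⟩
  exact Cfsg.Agent.Lib.Helper71.HKK.kk K hK _ (kreknin K hK)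

theorem nilBound_three : NilBound.{u} 3 2 := by
  intro M _ K hK
  exact Cfsg.Agent.Lib.Helper71.HKK.gam_two_of_three K hK

section grp
variable {G : Type u} [Group G]

/-- fixed point free automorphisms stay fixed point free modulo invariant subgroups -/
theorem mem_of_fpf [Finite G] (α : MulAut G) (hfpf : ∀ g : G, α g = g → g = 1)
    (H : Subgroup G) (hH : ∀ h ∈ H, α h ∈ H) (g : G) (hg : g⁻¹ * α g ∈ H) : g ∈ H := by
  let f : H → H := fun h => ⟨(h : G)⁻¹ * α h, H.mul_mem (H.inv_mem h.2) (hH _ h.2)⟩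
  have hinj : Function.Injective f := by
    intro a b hab
    have h1 : (a : G)⁻¹ * α a = (b : G)⁻¹ * α b := congrArg Subtype.val hab
    have h2 : α ((a : G) * (b : G)⁻¹) = (a : G) * (b : G)⁻¹ := by
      rw [map_mul, map_inv]
      have : α (a : G) = (a : G) * ((b : G)⁻¹ * α b) := by rw [← h1]; group
      rw [this]; group
    have h3 := hfpf _ h2
    exact Subtype.ext (mul_inv_eq_one.mp h3)
  obtain ⟨h, hh⟩ := (Finite.injective_iff_surjective.mp hinj) ⟨_, hg⟩
  have h1 : (h : G)⁻¹ * α h = g⁻¹ * α g := congrArg Subtype.val hh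
  have h2 : α (g * (h : G)⁻¹) = g * (h : G)⁻¹ := by
    rw [map_mul, map_inv]
    have : α g = g * ((h : G)⁻¹ * α h) := by rw [h1]; group
    rw [this]; group
  have h3 := hfpf _ h2
  rw [mul_inv_eq_one.mp h3]; exact h.2

theorem coprime_card_of_fpf [Finite G] {p : ℕ} (hp : p.Prime) (α : MulAut G) (hα : orderOf α = p)
    (hfpf : ∀ g : G, α g = g → g = 1) : Nat.Coprime p (Nat.card G) := by
  have : Fact p.Prime := ⟨hp⟩
  have hP : IsPGroup p (Subgroup.zpowers α) := by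
    apply IsPGroup.of_card (n := 1)
    rw [Nat.card_zpowers, hα, pow_one]
  have h1 := hP.card_modEq_card_fixedPoints G
  have h2 : Nat.card (MulAction.fixedPoints (Subgroup.zpowers α) G) = 1 := by
    rw [Nat.card_eq_one_iff_unique]
    refine ⟨⟨?_⟩, ⟨⟨1, ?_⟩⟩⟩
    · rintro ⟨a, ha⟩ ⟨b, hb⟩
      have ha' : α a = a := ha ⟨α, Subgroup.mem_zpowers α⟩
      have hb' : α b = b := hb ⟨α, Subgroup.mem_zpowers α⟩
      exact Subtype.ext ((hfpf a ha').trans (hfpf b hb').symm)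
    · rintro ⟨β, hβ⟩
      exact map_one β
  rw [h2] at h1
  rw [Nat.Prime.coprime_iff_not_dvd hp]
  intro hd
  have h3 : Nat.card G ≡ 0 [MOD p] := (Nat.modEq_zero_iff_dvd).mpr hd
  have h4 : 1 ≡ 0 [MOD p] := h1.symm.trans h3
  have h5 := (Nat.modEq_zero_iff_dvd).mp h4
  exact hp.one_lt.ne' (Nat.dvd_one.mp h5)

theorem Γ_eq_bot_of_le_succ (hnil : Group.IsNilpotent G) (c : ℕ) (h : Γ G c ≤ Γ G (c + 1)) :
    Γ G c = ⊥ := by
  have hst : ∀ k, Γ G (c + k) = Γ G c := by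
    intro k
    induction k with
    | zero => rfl
    | succ k ih =>
      have h1 : Γ G (c + (k + 1)) = ⁅Γ G (c + k), (⊤ : Subgroup G)⁆ := rfl
      rw [h1, ih]
      exact le_antisymm (Subgroup.lowerCentralSeries_antitone _ (Nat.le_succ c)) h
  obtain ⟨n, hn⟩ := Subgroup.nilpotent_iff_lowerCentralSeries.mp hnil
  have h2 : Γ G (c + n) ≤ Γ G n := Subgroup.lowerCentralSeries_antitone _ (Nat.le_add_left n c)
  rw [hst n] at h2
  exact le_bot_iff.mp (h2.trans hn.le)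

theorem Γ_eq_bot_of_nilBound [Finite G] {p : ℕ} (hp : p.Prime) (α : MulAut G) (hα : orderOf α = p)
    (hfpf : ∀ g : G, α g = g → g = 1) (c : ℕ) (hc : NilBound.{u} p c) : Γ G c = ⊥ := by
  have : Fact p.Prime := ⟨hp⟩
  have hnil : Group.IsNilpotent G := Cfsg.Agent.S0033.result α hfpf p hp hα
  apply Γ_eq_bot_of_le_succ hnil
  intro g hg
  have h1 := pow_mem_lcs_succ p α (by rw [← hα]; exact pow_orderOf_eq_one α) 1
    (fun d g _ hg' => by
      rw [pow_one]
      exact mem_of_fpf α hfpf _ (fun h hh => aut_mem_Γ α _ h hh) g hg') c hc g hg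
  rw [one_pow, one_mul] at h1
  have hcop : Nat.Coprime (p ^ c) (orderOf g) :=
    Nat.Coprime.pow_left c ((coprime_card_of_fpf hp α hα hfpf).coprime_dvd_right (orderOf_dvd_natCard g))
  obtain ⟨m, hm⟩ := exists_pow_eq_self_of_coprime hcop
  rw [← hm]
  exact Subgroup.pow_mem _ h1 m

end grp
end Cfsg.Agent.Lib.Lead.HKK

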